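import Groth.Agent.S3197
import Groth.Agent.Krr.H447.Syz
import Groth.Agent.CohqB.QC6
import Groth.Agent.Dcoh.Spread

/-!
# The Hilbert germ of a module with a finite locally free resolution on `P^r_S`

Let `L → M` be a finite resolution by finite locally free modules on `P^r_S` (`S` quasi-compact, with a finite
affine cover `h i : Spec A_i ⟶ S`) such that `p_*(M(d))` is finite locally free for large `d`.  Then the germ at
infinity of `d ↦ [p_*(M(d))]` is the Hilbert germ `Φ` (of S3197) of the class `Σ (-1)^k [L_k]`.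
-/

set_option autoImplicit false
universe u
open CategoryTheory CategoryTheory.Limits AlgebraicGeometry Filter

namespace Groth.Agent.Krr.H464.GermPush

open Groth.Agent.Sga67.TwistOver Groth.Agent.Sga67.TwistProj Groth.Agent.Ega3A.PChart
open Groth.Agent.Sga67.HypFields559 Groth.Agent.Sga67

local instance inst1 (r : ℕ) (S : Scheme.{u}) (i : ℤ) : PreservesFiniteLimits (tw r S i) :=
  preservesFiniteLimits_tw r S i
local instance inst2 (r : ℕ) (S : Scheme.{u}) (i : ℤ) : PreservesFiniteColimits (tw r S i) :=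
  preservesFiniteColimits_tw r S i

variable (r : ℕ) {S : Scheme.{u}} {ι : Type} (A : ι → Type u) [∀ i, CommRing (A i)]
  (h : ∀ i, Spec (CommRingCat.of (A i)) ⟶ S) [∀ i, IsOpenImmersion (h i)]

/-- On all charts, the higher cohomology of `M(d)` vanishes for large `d`. -/
def EvVan (M : (CohB1.ProjSpaceOver r S).Modules) : Prop :=
  ∃ N : ℕ, ∀ d : ℕ, N ≤ d → ∀ (i : ι) (q : ℕ), 1 ≤ q →
    Subsingleton (Coh.HH (CohB1.ProjSpace r (A i))
      (((tw r S (d : ℤ)).obj M).restrict (chart r (h i))) q)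

variable {r A h}

theorem evVan_iso {M N : (CohB1.ProjSpaceOver r S).Modules} (e : M ≅ N) (hM : EvVan r A h M) :
    EvVan r A h N := by
  obtain ⟨n, hn⟩ := hM
  exact ⟨n, fun d hd i q hq => Fga.HShift.subsingleton_of_iso
    ((Scheme.Modules.restrictFunctor (chart r (h i))).mapIso ((tw r S (d : ℤ)).mapIso e)) q
      (hn d hd i q hq)⟩

theorem isFinLocFree_twistOver (r : ℕ) (S : Scheme.{u}) (d : ℤ) :
    FlatMod.IsFinLocFree (Twist.twistOver r S d) := by
  have hL : PicF.IsInvertible (Twist.twistOver r S d) := Ega3B.ProjFrame.isInvertible_twistOver r d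
  intro x
  obtain ⟨U, hU, ⟨e⟩⟩ := hL x
  refine ⟨U, 1, hU, ⟨e ≪≫ ?_⟩⟩
  exact (Limits.coproductUniqueIso (fun _ : Fin 1 => Coh.structureModule (↑U : Scheme.{u}))).symm

theorem isZero_tw {M : (CohB1.ProjSpaceOver r S).Modules} (hM : IsZero M) (d : ℤ) :
    IsZero ((tw r S d).obj M) :=
  (tw r S d).map_isZero hM

theorem evVan_isZero {M : (CohB1.ProjSpaceOver r S).Modules} (hM : IsZero M) : EvVan r A h M :=
  ⟨0, fun d _ i q _ => Fga.HShift.subsingleton_of_isZero
    ((Scheme.Modules.restrictFunctor (chart r (h i))).map_isZero (isZero_tw hM d)) q⟩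

theorem evVan_of_isFinLocFree [Finite ι] (hs : ∀ s : S, ∃ i, s ∈ Set.range (h i))
    {M : (CohB1.ProjSpaceOver r S).Modules} (hM : FlatMod.IsFinLocFree M) : EvVan r A h M := by
  obtain ⟨n, hn⟩ := reg_mem hs (fun i => S3197.serreProp r (A i)) M hM
  exact ⟨n, fun d hd i q hq => (hn d hd).hh_zero i q hq⟩

theorem shortExact_tw {C : ShortComplex (CohB1.ProjSpaceOver r S).Modules} (hC : C.ShortExact)
    (d : ℤ) : (C.map (tw r S d)).ShortExact := by
  have := preservesFiniteLimits_tw r S d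
  have := preservesFiniteColimits_tw r S d
  exact hC.map_of_exact _

theorem evVan₃ {C : ShortComplex (CohB1.ProjSpaceOver r S).Modules} (hC : C.ShortExact)
    (h1 : EvVan r A h C.X₁) (h2 : EvVan r A h C.X₂) : EvVan r A h C.X₃ := by
  obtain ⟨n₁, hn₁⟩ := h1
  obtain ⟨n₂, hn₂⟩ := h2
  refine ⟨max n₁ n₂, fun d hd i q hq => ?_⟩
  have hT : ((C.map (tw r S (d : ℤ))).map (Scheme.Modules.restrictFunctor (chart r (h i)))).ShortExact :=
    (shortExact_tw hC d).map_of_exact _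
  exact Fga.HShift.subsingleton₃ hT q (hn₂ d (by omega) i q hq) (hn₁ d (by omega) i (q + 1) (by omega))

theorem isQCoh_tw {M : (CohB1.ProjSpaceOver r S).Modules} (hM : Coh.IsQCoh M) (d : ℤ) :
    Coh.IsQCoh ((tw r S d).obj M) :=
  Ega1.TensorRestrict.isQCoh_tensorMod _ _ (PerfA.QCohEpi.isQCoh_of_isFinLocFree
    (isFinLocFree_twistOver r S d)) hM

/-- `p_*` of the twist of a short exact sequence, for large twists. -/
theorem shortExact_push_tw (hs : ∀ s : S, ∃ i, s ∈ Set.range (h i))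
    {C : ShortComplex (CohB1.ProjSpaceOver r S).Modules} (hC : C.ShortExact)
    (h3 : Coh.IsQCoh C.X₃) (d : ℤ)
    (h1 : ∀ i, Subsingleton (Coh.HH (CohB1.ProjSpace r (A i))
      (((tw r S d).obj C.X₁).restrict (chart r (h i))) 1)) :
    ((C.map (tw r S d)).map (Scheme.Modules.pushforward (CohB1.ProjSpaceOver.toBase r S))).ShortExact := by
  refine shortExact_push_of_epi _ (shortExact_tw hC d) ?_
  refine PushLocal.epi_pushforward_map hs (fun i => isPullback_chart r (h i)) (C.map (tw r S d)).g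
    fun i => ?_
  have hprop := Ega3B.ProjProper.isProper_toSpec r (A i)
  have hT : ((C.map (tw r S d)).map (Scheme.Modules.restrictFunctor (chart r (h i)))).ShortExact :=
    (shortExact_tw hC d).map_of_exact _
  refine epi_push_of_H1 _ hT ?_ (h1 i)
  exact PerfA.QCohSerre.isQCoh_restrict (chart r (h i)) (isQCoh_tw h3 d)

theorem isFinLocFree_X₁ {X : Scheme.{u}} {T : ShortComplex X.Modules} (hT : T.ShortExact)
    (h₂ : FlatMod.IsFinLocFree T.X₂) (h₃ : FlatMod.IsFinLocFree T.X₃) : FlatMod.IsFinLocFree T.X₁ := by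
  have := hT.epi_g
  exact Dcoh.Spread.isFinLocFree_of_isLimit_kernelFork h₂ h₃ T.f T.g T.zero hT.fIsKernel

/-- The relation between modules on `P^r_S` and classes of bundles. -/
def Rel [Finite ι] (hs : ∀ s : S, ∃ i, s ∈ Set.range (h i)) (M : (CohB1.ProjSpaceOver r S).Modules)
    (c : SGA6.Kvb (CohB1.ProjSpaceOver r S)) : Prop :=
  Coh.IsQCoh M ∧ EvVan r A h M ∧
  ((∃ N : ℕ, ∀ d : ℕ, N ≤ d → FlatMod.IsFinLocFree
      ((Scheme.Modules.pushforward (CohB1.ProjSpaceOver.toBase r S)).obj ((tw r S (d : ℤ)).obj M))) →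
    Ega3A.K0Proj.Φ (S3197.hyp S r A h hs) c =
      ((fun d : ℕ => KZero.clSub (fun M : S.Modules => FlatMod.IsFinLocFree M)
        ((Scheme.Modules.pushforward (CohB1.ProjSpaceOver.toBase r S)).obj
          ((tw r S (d : ℤ)).obj M)) : ℕ → SGA6.Kvb S) : Germ (atTop : Filter ℕ) (SGA6.Kvb S)))

/-- The class of `p_*(M(d))`. -/
noncomputable def clPush (r : ℕ) {S : Scheme.{u}} (M : (CohB1.ProjSpaceOver r S).Modules) (d : ℕ) :
    SGA6.Kvb S :=
  KZero.clSub (fun M : S.Modules => FlatMod.IsFinLocFree M)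
    ((Scheme.Modules.pushforward (CohB1.ProjSpaceOver.toBase r S)).obj ((tw r S (d : ℤ)).obj M))

theorem clPush_iso {M N : (CohB1.ProjSpaceOver r S).Modules} (e : M ≅ N) (d : ℕ) :
    clPush r M d = clPush r N d := by
  have e' : (Scheme.Modules.pushforward (CohB1.ProjSpaceOver.toBase r S)).obj ((tw r S (d : ℤ)).obj M) ≅
      (Scheme.Modules.pushforward (CohB1.ProjSpaceOver.toBase r S)).obj ((tw r S (d : ℤ)).obj N) :=
    (Scheme.Modules.pushforward _).mapIso ((tw r S (d : ℤ)).mapIso e)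
  unfold clPush
  by_cases hM : FlatMod.IsFinLocFree
      ((Scheme.Modules.pushforward (CohB1.ProjSpaceOver.toBase r S)).obj ((tw r S (d : ℤ)).obj M))
  · exact K0Basic.clSub_iso' e' hM (Dcoh.FinLocFree.isFinLocFree_of_iso e' hM) (isZero_zero _)
      (Dcoh.FinLocFree.isFinLocFree_of_isZero (isZero_zero _))
  · rw [K0Basic.clSub_of_not_prop hM, K0Basic.clSub_of_not_prop
      (fun h' => hM (Dcoh.FinLocFree.isFinLocFree_of_iso e'.symm h'))]

theorem clPush_isZero {M : (CohB1.ProjSpaceOver r S).Modules} (hM : IsZero M) (d : ℕ) :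
    clPush r M d = 0 :=
  K0Basic.clSub_of_isZero ((Scheme.Modules.pushforward _).map_isZero (isZero_tw hM d))

section Induction

variable [Finite ι] (hs : ∀ s : S, ∃ i, s ∈ Set.range (h i))

theorem rel_iso {M N : (CohB1.ProjSpaceOver r S).Modules} (c : SGA6.Kvb (CohB1.ProjSpaceOver r S))
    (e : M ≅ N) (hM : Rel hs M c) : Rel hs N c := by
  obtain ⟨h1, h2, h3⟩ := hM
  refine ⟨PerfA.QCohSerre.isQCoh_of_iso e h1, evVan_iso e h2, fun ⟨n, hn⟩ => ?_⟩
  refine (h3 ⟨n, fun d hd => Dcoh.FinLocFree.isFinLocFree_of_iso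
    ((Scheme.Modules.pushforward _).mapIso ((tw r S (d : ℤ)).mapIso e.symm)) (hn d hd)⟩).trans ?_
  exact congrArg (fun f : ℕ → SGA6.Kvb S => (f : Germ (atTop : Filter ℕ) (SGA6.Kvb S)))
    (funext fun d => clPush_iso e d)

theorem rel_isZero {M : (CohB1.ProjSpaceOver r S).Modules} (hM : IsZero M) : Rel hs M 0 := by
  refine ⟨CohqB.QC6.isQCoh_of_isZero hM, evVan_isZero hM, fun _ => ?_⟩
  rw [map_zero]
  exact congrArg (fun f : ℕ → SGA6.Kvb S => (f : Germ (atTop : Filter ℕ) (SGA6.Kvb S)))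
    (funext fun d => (clPush_isZero hM d).symm)

theorem rel_step (C : ShortComplex (CohB1.ProjSpaceOver r S).Modules) (hC : C.ShortExact)
    (h2 : FlatMod.IsFinLocFree C.X₂) (c : SGA6.Kvb (CohB1.ProjSpaceOver r S))
    (h1 : Rel hs C.X₁ c) : Rel hs C.X₃ (KRR.cl (CohB1.ProjSpaceOver r S) C.X₂ - c) := by
  obtain ⟨hq, hv, hΦ⟩ := h1
  have hq3 : Coh.IsQCoh C.X₃ :=
    CohqB.QC6.isQCoh_of_shortExact₃ hC hq (PerfA.QCohEpi.isQCoh_of_isFinLocFree h2)
  refine ⟨hq3, evVan₃ hC hv (evVan_of_isFinLocFree hs h2), fun ⟨n₃, hn₃⟩ => ?_⟩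
  obtain ⟨n₁, hn₁⟩ := hv
  obtain ⟨n₂, hn₂⟩ := reg_mem hs (fun i => S3197.serreProp r (A i)) C.X₂ h2
  have key : ∀ d : ℕ, max n₁ (max n₂ n₃) ≤ d →
      ((C.map (tw r S (d : ℤ))).map
        (Scheme.Modules.pushforward (CohB1.ProjSpaceOver.toBase r S))).ShortExact := fun d hd =>
    shortExact_push_tw hs hC hq3 d fun i => hn₁ d (by omega) i 1 le_rfl
  have hK : ∀ d : ℕ, max n₁ (max n₂ n₃) ≤ d → FlatMod.IsFinLocFree
      ((Scheme.Modules.pushforward (CohB1.ProjSpaceOver.toBase r S)).obj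
        ((tw r S (d : ℤ)).obj C.X₁)) := fun d hd => by
    have hS := key d hd
    exact isFinLocFree_X₁ hS (hn₂ d (by omega)).push (hn₃ d (by omega))
  have e1 := hΦ ⟨_, hK⟩
  have e2 := Ega3A.K0Proj.Φ_mk (S3197.hyp S r A h hs) C.X₂ h2
  rw [← Sga67.K0Loc.clSub_eq_mk _ h2] at e2
  rw [map_sub]
  refine (congrArg₂ (· - ·) e2 e1).trans ?_
  rw [← Germ.coe_sub, Germ.coe_eq]
  refine eventually_atTop.2 ⟨max n₁ (max n₂ n₃), fun d hd => ?_⟩
  have hS := key d hd
  have h4 := K0Basic.clSub_of_shortExact (P := fun M : S.Modules => FlatMod.IsFinLocFree M) _ hS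
    (hK d hd) (hn₂ d (by omega)).push (hn₃ d (by omega))
  have h5 : clPush r C.X₂ d = clPush r C.X₁ d + clPush r C.X₃ d := h4
  change clPush r C.X₂ d - clPush r C.X₁ d = clPush r C.X₃ d
  rw [h5, add_sub_cancel_left]

/-- **The Hilbert germ of a module with a finite locally free resolution.** -/
theorem germ_of_isLFRes {M : (CohB1.ProjSpaceOver r S).Modules} {n : ℕ}
    {L : ChainComplex (CohB1.ProjSpaceOver r S).Modules ℕ}
    {π : L ⟶ (ChainComplex.single₀ (CohB1.ProjSpaceOver r S).Modules).obj M} (hL : KRR.IsLFRes M n L π)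
    (hM : ∃ N : ℕ, ∀ d : ℕ, N ≤ d → FlatMod.IsFinLocFree
      ((Scheme.Modules.pushforward (CohB1.ProjSpaceOver.toBase r S)).obj ((tw r S (d : ℤ)).obj M))) :
    Ega3A.K0Proj.Φ (S3197.hyp S r A h hs)
        (∑ k ∈ Finset.range (n + 1), (-1 : ℤ) ^ k • KRR.cl (CohB1.ProjSpaceOver r S) (L.X k)) =
      ((clPush r M : ℕ → SGA6.Kvb S) : Germ (atTop : Filter ℕ) (SGA6.Kvb S)) :=
  (H447.Syz.isLFRes_induction (Rel hs) (fun _ _ c e hM => rel_iso hs c e hM)
    (fun _ hM => rel_isZero hs hM) (fun C hC h2 c h1 => rel_step hs C hC h2 c h1) hL).2.2 hM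

end Induction

end Groth.Agent.Krr.H464.GermPush
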