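import Mathlib.Algebra.Ring.Basic
import Mathlib.Algebra.Group.Units.Basic
import Mathlib.Data.Nat.Choose.Basic
import Mathlib.Algebra.Group.Basic
import Mathlib.Algebra.BigOperators.Group.Finset.Basic
import Mathlib.Algebra.Module.Defs
import Mathlib.Tactic.Ring
import Mathlib.Tactic.Abel

/-!
# Functions `ℕ → G` killed by an iterated difference operator

* `PolyLT m ψ`: the `m`-th iterated difference of `ψ : ℕ → G` is zero (`ψ` is a polynomial of degree `< m`);
* `PolyLT.choose`: `d ↦ C(d + a, n) x`;
* `PolyLT.eq_zero`: such a function which is eventually zero is zero;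
* `PolyLT.eq_mul_pow`: if `ψ d = y v^d` for large `d`, `v` a unit, then for all `d`.
-/

set_option autoImplicit false

universe u

namespace Groth.Agent.Krr.H464.Num

open Finset

/-- The `m`-th iterated difference of `ψ` vanishes. -/
def PolyLT {G : Type u} [AddCommGroup G] : ℕ → (ℕ → G) → Prop
  | 0, ψ => ∀ d, ψ d = 0
  | m + 1, ψ => PolyLT m (fun d => ψ (d + 1) - ψ d)

variable {G : Type u} [AddCommGroup G]

theorem PolyLT.zero (m : ℕ) : PolyLT m (fun _ => (0 : G)) := by
  induction m with
  | zero => exact fun _ => rfl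
  | succ m ih =>
    change PolyLT m (fun _ => (0 : G) - 0)
    simpa using ih

theorem PolyLT.add {m : ℕ} {ψ χ : ℕ → G} (h : PolyLT m ψ) (h' : PolyLT m χ) :
    PolyLT m (fun d => ψ d + χ d) := by
  induction m generalizing ψ χ with
  | zero => intro d; simp [h d, h' d]
  | succ m ih =>
    have h1 := ih h h'
    change PolyLT m (fun d => (ψ (d + 1) + χ (d + 1)) - (ψ d + χ d))
    simpa only [add_sub_add_comm] using h1

theorem PolyLT.map {H : Type*} [AddCommGroup H] (f : G →+ H) {m : ℕ} {ψ : ℕ → G} (h : PolyLT m ψ) :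
    PolyLT m (fun d => f (ψ d)) := by
  induction m generalizing ψ with
  | zero => intro d; simp [h d]
  | succ m ih =>
    have h1 := ih h
    change PolyLT m (fun d => f (ψ (d + 1)) - f (ψ d))
    simpa only [map_sub] using h1

theorem PolyLT.neg {m : ℕ} {ψ : ℕ → G} (h : PolyLT m ψ) : PolyLT m (fun d => - ψ d) :=
  h.map (-(AddMonoidHom.id G))

theorem PolyLT.sum {ι : Type*} (s : Finset ι) {m : ℕ} {ψ : ι → ℕ → G} (h : ∀ i ∈ s, PolyLT m (ψ i)) :
    PolyLT m (fun d => ∑ i ∈ s, ψ i d) := by
  classical
  induction s using Finset.induction_on with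
  | empty => simpa using PolyLT.zero m
  | insert a s ha ih =>
    simp only [Finset.sum_insert ha]
    exact (h a (Finset.mem_insert_self a s)).add
      (ih fun i hi => h i (Finset.mem_insert_of_mem hi))

theorem PolyLT.shift {m : ℕ} {ψ : ℕ → G} (h : PolyLT m ψ) (k : ℕ) :
    PolyLT m (fun d => ψ (d + k)) := by
  induction m generalizing ψ with
  | zero => intro d; exact h (d + k)
  | succ m ih =>
    have h1 := ih h
    change PolyLT m (fun d => ψ (d + 1 + k) - ψ (d + k))
    simpa only [add_right_comm] using h1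

theorem PolyLT.choose (a n : ℕ) (x : G) : PolyLT (n + 1) (fun d => (d + a).choose n • x) := by
  induction n with
  | zero =>
    intro d
    simp
  | succ n ih =>
    change PolyLT (n + 1) (fun d => (d + 1 + a).choose (n + 1) • x - (d + a).choose (n + 1) • x)
    convert ih using 2 with d
    rw [show d + 1 + a = (d + a) + 1 by omega, Nat.choose_succ_succ, Nat.succ_eq_add_one, add_nsmul,
      add_sub_cancel_right]

/-- A polynomial function which vanishes for large arguments is zero. -/
theorem PolyLT.eq_zero {m : ℕ} {ψ : ℕ → G} (h : PolyLT m ψ) {N : ℕ} (hN : ∀ d, N ≤ d → ψ d = 0)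
    (d : ℕ) : ψ d = 0 := by
  induction m generalizing ψ d with
  | zero => exact h d
  | succ m ih =>
    have h1 : ∀ d, ψ (d + 1) - ψ d = 0 := fun d =>
      ih h (fun d hd => by rw [hN d hd, hN (d + 1) (by omega), sub_zero]) d
    have h2 : ∀ d, ψ d = ψ 0 := by
      intro d
      induction d with
      | zero => rfl
      | succ d ihd => rw [← ihd]; exact sub_eq_zero.1 (h1 d)
    rw [h2 d, ← h2 N]
    exact hN N le_rfl

/-- If a polynomial function `ψ` satisfies `ψ d = y v ^ d` for large `d`, `v` a unit, then it does for all `d`. -/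
theorem PolyLT.eq_mul_pow {R : Type u} [CommRing R] {v : R} (hv : IsUnit v) {m : ℕ} {ψ : ℕ → R}
    (h : PolyLT m ψ) {y : R} {N : ℕ} (hN : ∀ d, N ≤ d → ψ d = y * v ^ d) (d : ℕ) :
    ψ d = y * v ^ d := by
  induction m generalizing ψ y d with
  | zero =>
    have h1 : y * v ^ N = 0 := by rw [← hN N le_rfl]; exact h N
    have h2 : y = 0 := by
      have := (hv.pow N).mul_left_eq_zero.1 h1
      exact this
    rw [h d, h2, zero_mul]
  | succ m ih =>
    have h1 : ∀ d, ψ (d + 1) - ψ d = (y * (v - 1)) * v ^ d := fun d =>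
      ih h (fun d hd => by rw [hN d hd, hN (d + 1) (by omega)]; ring) d
    have h2 : ∀ d, ψ d - y * v ^ d = ψ 0 - y * v ^ 0 := by
      intro d
      induction d with
      | zero => rfl
      | succ d ihd =>
        rw [← ihd]
        have := h1 d
        have e : ψ (d + 1) = ψ d + (y * (v - 1)) * v ^ d := by rw [← this]; abel
        rw [e]
        ring
    have h3 := hN N le_rfl
    have h4 : ψ d - y * v ^ d = 0 := by
      rw [h2 d, ← h2 N, h3, sub_self]
    exact sub_eq_zero.1 h4

end Groth.Agent.Krr.H464.Num
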