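import Groth.Prelude.Def_KRR
import Groth.Agent.CohqA.HDIZero
import Groth.Agent.CohqA.HOpen
import Groth.Agent.Sga67.PullVan
import Groth.Agent.Sga67.TwistOver
import Groth.Agent.Krr.H455.RelCast
import Groth.Agent.S0022

/-!
# The sheaves `O(m) ⊗ p^* E`, `m ≥ 0`, are regular
-/

set_option autoImplicit false
universe u
open CategoryTheory CategoryTheory.Limits AlgebraicGeometry

namespace Groth.Agent.Krr.H464.RegTw

open Groth.Agent.Ega3A.PChart

/-- `R^q p_* F = 0` if `H^q(P_V, F) = 0` on all charts over affine opens `V` of the base. -/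
theorem isZero_RpushAb_of_charts (n : ℕ) {Y : Scheme.{u}} (F : (KRR.PY n Y).Modules) (q : ℕ)
    (H : ∀ (V : Y.Opens) (hV : IsAffineOpen V),
      Subsingleton (Coh.HH (CohB1.ProjSpace n Γ(Y, V)) (F.restrict (chart n hV.fromSpec)) q)) :
    IsZero ((Coh.RpushAb (KRR.pr n Y) q).obj (Coh.toAb F)) := by
  refine CohqA.HDIZero.isZero_RpushAb _ _ q {V | IsAffineOpen V} Y.isBasis_affineOpens fun V hV => ?_
  have hV' : IsAffineOpen V := hV
  have hU : (KRR.pr n Y) ⁻¹ᵁ V = (chart n hV'.fromSpec) ''ᵁ ⊤ := by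
    have h1 := IsOpenImmersion.image_preimage_eq_preimage_image_of_isPullback
      (isPullback_chart n hV'.fromSpec).flip ⊤
    rw [Scheme.Hom.image_top_eq_opensRange hV'.fromSpec, hV'.opensRange_fromSpec] at h1
    exact h1.symm
  have := H V hV'
  exact (CohqA.HOpen.HHEquiv (chart n hV'.fromSpec) F _ hU q).toEquiv.subsingleton

theorem van_twF_pullback (n : ℕ) (Y : Scheme.{u}) {E : Y.Modules} (hE : FlatMod.IsFinLocFree E)
    (j : ℤ) (q : ℕ) (hq : 1 ≤ q) (hj : -(q : ℤ) ≤ j) :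
    IsZero ((Coh.RpushAb (KRR.pr n Y) q).obj (Coh.toAb
      (KRR.twF n Y j ((Scheme.Modules.pullback (KRR.pr n Y)).obj E)))) := by
  refine isZero_RpushAb_of_charts n _ q fun V hV => ?_
  by_cases hqn : q ≤ n
  · exact Sga67.PullVan.subsingleton_HH_pullback n hV.fromSpec E hE j q (Or.inl ⟨hq, by omega⟩)
  · have h1 : FlatMod.IsFinLocFree ((KRR.twF n Y j ((Scheme.Modules.pullback (KRR.pr n Y)).obj E)).restrict
        (chart n hV.fromSpec)) :=
      Dcoh.FinLocFree.isFinLocFree_restrict (Sga67.TwistOver.isFinLocFree_tw n Y j _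
        (PerfB.FlatPull.isFinLocFree_pullback _ hE)) _
    have := PerfA.QCohEpi.isQCoh_of_isFinLocFree h1
    exact S0022.result n Γ(Y, V) _ q (by omega)

/-- `O(m) ⊗ p^* E` is regular for `m ≥ 0`. -/
theorem isRegSheaf_twF_pullback (n : ℕ) (Y : Scheme.{u}) {E : Y.Modules} (hE : FlatMod.IsFinLocFree E)
    (m : ℤ) (hm : 0 ≤ m) :
    KRR.IsRegSheaf n Y (KRR.twF n Y m ((Scheme.Modules.pullback (KRR.pr n Y)).obj E)) := by
  intro i hi
  obtain ⟨e⟩ := Sga67.TwistOver.nonempty_tw_tw n Y (-(i : ℤ)) m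
    ((Scheme.Modules.pullback (KRR.pr n Y)).obj E)
  exact H455.RelCast.van_of_iso (KRR.pr n Y) i e.symm
    (van_twF_pullback n Y hE (-(i : ℤ) + m) i hi (by omega))

end Groth.Agent.Krr.H464.RegTw
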