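import Groth.Agent.S1676
import Groth.Agent.Sga5.ProjSmooth
import Groth.Agent.Dix.ProjProper
import Groth.Prelude.Def_Mor2
import Mathlib.AlgebraicGeometry.Morphisms.Separated

/-!
# Sections of smooth separated morphisms are regular closed immersions; the case of `P^n_Y ⟶ Y`
-/

set_option autoImplicit false

universe u

open CategoryTheory CategoryTheory.Limits AlgebraicGeometry

namespace Groth.Agent.Krr.H464.SecReg

/-- A section of a separated morphism is a closed immersion. -/
theorem isClosedImmersion_section {X S : Scheme.{u}} (f : X ⟶ S) [IsSeparated f] (s : S ⟶ X)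
    (hs : s ≫ f = 𝟙 S) : IsClosedImmersion s := by
  have h : IsClosedImmersion (s ≫ f) := by rw [hs]; infer_instance
  exact IsClosedImmersion.of_comp s f

/-- A section of a smooth separated morphism is a regular closed immersion. -/
theorem isRegularClosedImmersion_section {X S : Scheme.{u}} (f : X ⟶ S) [Smooth f] [IsSeparated f]
    (s : S ⟶ X) (hs : s ≫ f = 𝟙 S) : Mor2.IsRegularClosedImmersion s :=
  have := isClosedImmersion_section f s hs
  Groth.Agent.S1676.result f s hs

/-- `P^n_S ⟶ S` is smooth. -/
theorem smooth_toBase (n : ℕ) (S : Scheme.{u}) : Smooth (CohB1.ProjSpaceOver.toBase n S) := by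
  have h0 := Groth.Agent.Sga5.ProjSmooth.smooth_toSpec n (ULift.{u} ℤ)
  have h1 : Smooth (CohB1.ProjSpace.toSpec n (ULift.{u} ℤ)) := SmoothOfRelativeDimension.smooth n _
  exact MorphismProperty.pullback_snd (P := @Smooth) _ _ h1

/-- A section of `P^n_S ⟶ S` is a regular closed immersion. -/
theorem isRegularClosedImmersion_toBase (n : ℕ) (S : Scheme.{u}) (s : S ⟶ CohB1.ProjSpaceOver n S)
    (hs : s ≫ CohB1.ProjSpaceOver.toBase n S = 𝟙 S) : Mor2.IsRegularClosedImmersion s :=
  have := smooth_toBase n S
  isRegularClosedImmersion_section (CohB1.ProjSpaceOver.toBase n S) s hs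

end Groth.Agent.Krr.H464.SecReg
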