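import Groth.Agent.S3197
import Groth.Agent.Krr.H464.Num
import Groth.Agent.Krr.H464.RegTw
import Groth.Agent.Krr.H464.SecReg
import Groth.Agent.Sga67.FlatPre

/-!
# The push-forward `p_K` along `p : P^r_S ⟶ S` and Hilbert polynomials

For `z ∈ K(P^r_S)` there is `ψ : ℕ → K(S)` with vanishing `(r+1)`-st difference whose germ at infinity is the
Hilbert germ of `z` and with `p_K(z(d)) = ψ d` for all `d ≥ 0`, for every push-forward `p_K` in the sense of
`KRR.IsPushPr`.
-/

set_option autoImplicit false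
universe v w u
open CategoryTheory CategoryTheory.Limits AlgebraicGeometry Filter Finset

namespace Groth.Agent.Krr.H464.HilbPoly

open Groth.Agent.Sga67.TwistOver Groth.Agent.Sga67.TwistProj Groth.Agent.Ega3A.PChart
open Groth.Agent.Sga67.HypFields559 Groth.Agent.Sga67 Groth.Agent.Krr.H464.Num
open Groth.Agent.Ega3A

variable (r : ℕ) {S : Scheme.{u}} {ι : Type} [Finite ι] {A : ι → Type u} [∀ i, CommRing (A i)]
  {h : ∀ i, Spec (CommRingCat.of (A i)) ⟶ S} [∀ i, IsOpenImmersion (h i)]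
  (hs : ∀ s : S, ∃ i, s ∈ Set.range (h i))

local instance inst1 (r : ℕ) (S : Scheme.{u}) (i : ℤ) : PreservesFiniteLimits (tw r S i) :=
  preservesFiniteLimits_tw r S i
local instance inst2 (r : ℕ) (S : Scheme.{u}) (i : ℤ) : PreservesFiniteColimits (tw r S i) :=
  preservesFiniteColimits_tw r S i

local instance inst3 (r : ℕ) (S : Scheme.{u}) :
    PreservesFiniteLimits (Scheme.Modules.pullback (CohB1.ProjSpaceOver.toBase r S)) := by
  have h := SecReg.smooth_toBase r S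
  exact FlatPre.preservesFiniteLimits_pullback (CohB1.ProjSpaceOver.toBase r S)

include hs

/-- The abstract hypotheses of S3197. -/
theorem hyp : Ega3A.K0Proj.Hyp (fun M : S.Modules => FlatMod.IsFinLocFree M)
      (fun M : (CohB1.ProjSpaceOver r S).Modules => FlatMod.IsFinLocFree M) r
      (Scheme.Modules.pullback (CohB1.ProjSpaceOver.toBase r S)) (fun i : ℕ => tw r S (i : ℤ))
      (tw r S (-1)) (Scheme.Modules.pushforward (CohB1.ProjSpaceOver.toBase r S)).obj
      (RegF r A h) :=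
  S3197.hyp S r A h hs

/-- Elements of `K(P^r_S)` are `Σ_i t^i f(x_i)`. -/
theorem exists_eq_sum (z : SGA6.Kvb (CohB1.ProjSpaceOver r S)) : ∃ x : Fin (r + 1) → SGA6.Kvb S,
    z = ∑ i : Fin (r + 1), K0Proj.t (hyp r hs) (i : ℕ) (K0Proj.f (hyp r hs) (x i)) := by
  obtain ⟨x, hx⟩ := K0Proj.Ψ_surjective (hyp r hs) z
  exact ⟨x, by rw [← hx, K0Proj.Ψ_apply]⟩

variable {KP : Type v} [CommRing KP] {KS : Type w} [CommRing KS]
  {φP : SGA6.Kvb (KRR.PY r S) →+ KP} {φS : SGA6.Kvb S →+ KS} {g : KP →+ KS}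

/-- `p_K(O(i) p^* x) = C(i + r, r) x`. -/
theorem push_t_f (hg : KRR.IsPushPr r S φP φS g) (i : ℕ) (x : SGA6.Kvb S) :
    g (φP (K0Proj.t (hyp r hs) i (K0Proj.f (hyp r hs) x))) = (i + r).choose r • φS x := by
  have h1 : ((g.comp φP).comp ((K0Proj.t (hyp r hs) i).comp (K0Proj.f (hyp r hs)))) =
      ((i + r).choose r) • φS := by
    refine K0Basic.hom_ext_sub fun E hE => ?_
    rw [K0Loc.clSub_eq_mk _ hE, AddMonoidHom.comp_apply, AddMonoidHom.comp_apply,
      AddMonoidHom.comp_apply, K0Proj.f_mk, K0Proj.t_mk, ← K0Loc.clSub_eq_mk]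
    have hv : FlatMod.IsFinLocFree (KRR.twF r S (i : ℤ) ((Scheme.Modules.pullback (KRR.pr r S)).obj E)) :=
      isFinLocFree_tw r S i _ (PerfB.FlatPull.isFinLocFree_pullback _ hE)
    refine (hg _ hv (RegTw.isRegSheaf_twF_pullback r S hE i (by positivity))).trans ?_
    have h2 := congrArg φS (PushTwist.clSub_push_tw_pull r S i hE)
    refine h2.trans ?_
    rw [map_nsmul, K0Loc.clSub_eq_mk _ hE]
    rfl
  exact DFunLike.congr_fun h1 x

/-- **Hilbert polynomials and `p_K`.** -/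
theorem exists_hilb (z : SGA6.Kvb (CohB1.ProjSpaceOver r S)) : ∃ ψ : ℕ → SGA6.Kvb S,
    PolyLT (r + 1) ψ ∧
    K0Proj.Φ (hyp r hs) z = ((ψ : ℕ → SGA6.Kvb S) : Germ (atTop : Filter ℕ) (SGA6.Kvb S)) ∧
    ∀ (KP : Type v) [CommRing KP] (KS : Type w) [CommRing KS]
      (φP : SGA6.Kvb (KRR.PY r S) →+ KP) (φS : SGA6.Kvb S →+ KS) (g : KP →+ KS),
      KRR.IsPushPr r S φP φS g → ∀ d : ℕ, g (φP (K0Proj.t (hyp r hs) d z)) = φS (ψ d) := by
  obtain ⟨x, rfl⟩ := exists_eq_sum r hs z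
  refine ⟨fun d => ∑ i : Fin (r + 1), (d + i + r).choose r • x i, ?_, ?_, ?_⟩
  · refine PolyLT.sum _ fun i _ => ?_
    have := PolyLT.choose (i + r) r (x i)
    simpa only [← add_assoc] using this
  · rw [map_sum]
    simp only [K0Proj.Φ_t_f]
    have h1 : (fun d => ∑ i : Fin (r + 1), (d + i + r).choose r • x i) =
        ∑ i : Fin (r + 1), (fun d => (d + i + r).choose r • x i : ℕ → SGA6.Kvb S) := by
      funext n
      simp
    rw [h1]
    exact (map_sum (Germ.coeAddHom (M := SGA6.Kvb S) (atTop : Filter ℕ)) _ _).symm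
  · intro KP _ KS _ φP φS g hg d
    rw [map_sum, map_sum, map_sum, map_sum]
    refine Finset.sum_congr rfl fun i _ => ?_
    rw [K0Proj.t_add, push_t_f r hs hg, map_nsmul]

end Groth.Agent.Krr.H464.HilbPoly
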