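import Groth.Agent.Krr.H464.GermPush
import Groth.Agent.Krr.H464.HilbPoly
import Groth.Agent.Krr.H446.ProjFormula
import Groth.Agent.Krr.H482.PullTens

/-!
# Push-forward along a section of `P^n_Y ⟶ Y` followed by the projection

`pushPr_of_isLFRes`: let `s` be a section of `p : P^n_Y ⟶ Y`, `F` finite locally free on `Y` and `L → s_* F` a finite
locally free resolution; then `p_K (Σ (-1)^k [L_k]) = [F]` for every push-forward `p_K` as in `KRR.IsPushPr`
(`K(P)`, `K(Y)` replaced by any rings, the one for `Y` with the product given by the tensor product).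
-/

set_option autoImplicit false
universe v w u
open CategoryTheory CategoryTheory.Limits AlgebraicGeometry Filter Finset

namespace Groth.Agent.Krr.H464.SectionPush

open Groth.Agent.Sga67.TwistOver Groth.Agent.Krr.H464.Num Groth.Agent.Krr.H464.GermPush
open Groth.Agent.Ega3A

attribute [local instance] GermPush.inst1 GermPush.inst2 HilbPoly.inst3

variable (n : ℕ) {Y : Scheme.{u}} (s : Y ⟶ KRR.PY n Y) (hs : s ≫ KRR.pr n Y = 𝟙 Y)

include hs in
/-- `p_* s_* ≅ id`. -/
noncomputable def pushSectionIso (M : Y.Modules) :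
    (Scheme.Modules.pushforward (KRR.pr n Y)).obj ((Scheme.Modules.pushforward s).obj M) ≅ M :=
  (Scheme.Modules.pushforwardComp s (KRR.pr n Y)).app M ≪≫
    (Scheme.Modules.pushforwardCongr hs).app M ≪≫ (Scheme.Modules.pushforwardId Y).app M

/-- `p_* (O(d) ⊗ s_* F) ≅ F ⊗ s^* O(d)`. -/
noncomputable def pushTwistSectionIso [IsClosedImmersion s] (F : Y.Modules) (d : ℤ) :
    (Scheme.Modules.pushforward (KRR.pr n Y)).obj
        ((tw n Y d).obj ((Scheme.Modules.pushforward s).obj F)) ≅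
      ((DCoh.tensorBi (X := Y)).obj F).obj
        ((Scheme.Modules.pullback s).obj (Twist.twistOver n Y d)) :=
  (Scheme.Modules.pushforward (KRR.pr n Y)).mapIso (H446.ProjFormula.projIso s F (Twist.twistOver n Y d)) ≪≫
    pushSectionIso n s hs _

/-- `s^* O(i) ⊗ s^* O(j) ≅ s^* O(i + j)`. -/
theorem nonempty_pull_mul (i j : ℤ) :
    Nonempty (((DCoh.tensorBi (X := Y)).obj ((Scheme.Modules.pullback s).obj (Twist.twistOver n Y i))).obj
      ((Scheme.Modules.pullback s).obj (Twist.twistOver n Y j)) ≅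
      (Scheme.Modules.pullback s).obj (Twist.twistOver n Y (i + j))) := by
  obtain ⟨e⟩ := nonempty_twistOver_mul n Y i j
  exact ⟨(H482.PullTens.pullTensorIso s _ _).symm ≪≫ (Scheme.Modules.pullback s).mapIso e⟩

theorem nonempty_pull_zero :
    Nonempty ((Scheme.Modules.pullback s).obj (Twist.twistOver n Y 0) ≅ Coh.structureModule Y) := by
  obtain ⟨e⟩ := nonempty_twistOver_zero n Y
  exact ⟨(Scheme.Modules.pullback s).mapIso e ≪≫ H482.PullTens.pullUnitIso s⟩

theorem isFinLocFree_pull (i : ℤ) :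
    FlatMod.IsFinLocFree ((Scheme.Modules.pullback s).obj (Twist.twistOver n Y i)) :=
  PerfB.FlatPull.isFinLocFree_pullback s (isFinLocFree_twistOver n Y i)

section Model

variable {KY : Type w} [CommRing KY] {φY : SGA6.Kvb Y →+ KY}
  (h1 : φY (KRR.cl Y (Coh.structureModule Y)) = 1)
  (hm : ∀ E F : Y.Modules, FlatMod.IsFinLocFree E → FlatMod.IsFinLocFree F →
    φY (KRR.cl Y E) * φY (KRR.cl Y F) = φY (KRR.cl Y (((DCoh.tensorBi (X := Y)).obj E).obj F)))

include hm in
theorem cl_pull_add (i j : ℤ) :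
    φY (KRR.cl Y ((Scheme.Modules.pullback s).obj (Twist.twistOver n Y i))) *
      φY (KRR.cl Y ((Scheme.Modules.pullback s).obj (Twist.twistOver n Y j))) =
    φY (KRR.cl Y ((Scheme.Modules.pullback s).obj (Twist.twistOver n Y (i + j)))) := by
  obtain ⟨e⟩ := nonempty_pull_mul n s i j
  rw [hm _ _ (isFinLocFree_pull n s i) (isFinLocFree_pull n s j)]
  exact congrArg φY (H446.ProjFormula.cl_iso e
    (Groth.Agent.Sga67.LocBasis.isFinLocFree_tensorMod (isFinLocFree_pull n s i) (isFinLocFree_pull n s j)))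

include h1 in
theorem cl_pull_zero :
    φY (KRR.cl Y ((Scheme.Modules.pullback s).obj (Twist.twistOver n Y 0))) = 1 := by
  obtain ⟨e⟩ := nonempty_pull_zero n s
  rw [← h1]
  exact congrArg φY (H446.ProjFormula.cl_iso e (isFinLocFree_pull n s 0))

include h1 hm in
theorem cl_pull_pow (d : ℕ) :
    φY (KRR.cl Y ((Scheme.Modules.pullback s).obj (Twist.twistOver n Y (d : ℤ)))) =
      (φY (KRR.cl Y ((Scheme.Modules.pullback s).obj (Twist.twistOver n Y 1)))) ^ d := by
  induction d with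
  | zero => simpa using cl_pull_zero n s h1
  | succ d ih =>
    rw [pow_succ, ← ih, cl_pull_add n s hm]
    push_cast
    rfl

include h1 hm in
theorem isUnit_cl_pull :
    IsUnit (φY (KRR.cl Y ((Scheme.Modules.pullback s).obj (Twist.twistOver n Y 1)))) := by
  refine IsUnit.of_mul_eq_one
    (φY (KRR.cl Y ((Scheme.Modules.pullback s).obj (Twist.twistOver n Y (-1))))) ?_
  rw [cl_pull_add n s hm]
  exact cl_pull_zero n s h1

include hs h1 hm in
/-- **`p_K s_K [F] = [F]` for a section `s`.** -/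
theorem pushPr_of_isLFRes [CompactSpace Y] {KP : Type v} [CommRing KP]
    {φP : SGA6.Kvb (KRR.PY n Y) →+ KP} {g : KP →+ KY} (hg : KRR.IsPushPr n Y φP φY g)
    {F : Y.Modules} (hF : FlatMod.IsFinLocFree F) {N : ℕ} {L : ChainComplex (KRR.PY n Y).Modules ℕ}
    {π : L ⟶ (ChainComplex.single₀ (KRR.PY n Y).Modules).obj ((Scheme.Modules.pushforward s).obj F)}
    (hL : KRR.IsLFRes ((Scheme.Modules.pushforward s).obj F) N L π) :
    g (φP (∑ k ∈ range (N + 1), (-1 : ℤ) ^ k • KRR.cl (KRR.PY n Y) (L.X k))) =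
      φY (KRR.cl Y F) := by
  have hci : IsClosedImmersion s := by
    have h : IsClosedImmersion (s ≫ KRR.pr n Y) := by rw [hs]; infer_instance
    have : IsProper (KRR.pr n Y) := Groth.Agent.Dix.ProjProper.isProper_toBase n Y
    exact IsClosedImmersion.of_comp s (KRR.pr n Y)
  obtain ⟨m, A, inst, h, hopen, hcov⟩ := S3197.exists_charts Y
  obtain ⟨ψ, hψ, hΦ, hgψ⟩ := HilbPoly.exists_hilb.{v, w} n hcov
    (∑ k ∈ range (N + 1), (-1 : ℤ) ^ k • KRR.cl (KRR.PY n Y) (L.X k))
  -- twists of `s_* F`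
  have hflf : ∀ d : ℤ, FlatMod.IsFinLocFree (((DCoh.tensorBi (X := Y)).obj F).obj
        ((Scheme.Modules.pullback s).obj (Twist.twistOver n Y d))) := fun d =>
    Groth.Agent.Sga67.LocBasis.isFinLocFree_tensorMod hF (isFinLocFree_pull n s d)
  have hpush : ∀ d : ℤ, FlatMod.IsFinLocFree ((Scheme.Modules.pushforward (KRR.pr n Y)).obj
        ((tw n Y d).obj ((Scheme.Modules.pushforward s).obj F))) := fun d =>
    Dcoh.FinLocFree.isFinLocFree_of_iso (pushTwistSectionIso n s hs F d).symm (hflf d)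
  have hgerm := germ_of_isLFRes hcov hL ⟨0, fun d _ => hpush d⟩
  have h2 := hΦ.symm.trans hgerm
  obtain ⟨N₀, hN₀⟩ := eventually_atTop.1 (Germ.coe_eq.1 h2)
  -- the value of `φ ψ` for large arguments
  have h3 : ∀ d : ℕ, N₀ ≤ d → φY (ψ d) = φY (KRR.cl Y F) *
      (φY (KRR.cl Y ((Scheme.Modules.pullback s).obj (Twist.twistOver n Y 1)))) ^ d := by
    intro d hd
    rw [← cl_pull_pow n s h1 hm d, hm _ _ hF (isFinLocFree_pull n s d)]
    refine congrArg φY ((hN₀ d hd).trans ?_)
    exact H446.ProjFormula.cl_iso (pushTwistSectionIso n s hs F d) (hpush d)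
  have h4 := PolyLT.eq_mul_pow (isUnit_cl_pull n s h1 hm) (hψ.map φY) h3 0
  rw [pow_zero, mul_one] at h4
  rw [← h4, ← hgψ KP KY φP φY g hg 0, K0Proj.t_zero]

end Model

end Groth.Agent.Krr.H464.SectionPush
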